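import Mathlib

/-!
Coordinates on a group of prime exponent.
-/

set_option autoImplicit false
set_option linter.style.haveILetI false

namespace CfsgLib.KGV.RealVector

theorem exists_coords {A : Type*} [CommGroup A] [Finite A] (p : ℕ) [Fact p.Prime]
    (h : ∀ a : A, a ^ p = 1) : ∃ d : ℕ, Nonempty (Additive A ≃+ (Fin d → ZMod p)) := by
  letI : Module (ZMod p) (Additive A) := AddCommGroup.zmodModule (n := p) fun a => h a.toMul
  haveI : Finite (Module.Free.ChooseBasisIndex (ZMod p) (Additive A)) :=
    Finite.of_injective _ (Module.Free.chooseBasis (ZMod p) (Additive A)).injective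
  haveI : Fintype (Module.Free.ChooseBasisIndex (ZMod p) (Additive A)) := Fintype.ofFinite _
  exact ⟨_, ⟨((Module.Free.chooseBasis (ZMod p) (Additive A)).reindex
    (Fintype.equivFin _)).equivFun.toAddEquiv⟩⟩

end CfsgLib.KGV.RealVector
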