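import Cfsg.Agent.Lib.KGV.Count

/-!
Knörr's count with a weight that is a square.
-/

set_option autoImplicit false
set_option linter.unusedSectionVars false

namespace CfsgLib.KGV.RealVector

open Cfsg Finset
open scoped ComplexConjugate CfsgLib.Char

attribute [local instance] Classical.propDecidable

variable {X : Type*} [Group X] [Fintype X] {C : Type*} [Group C] [Fintype C] (ι : C →* X)

/-- The coefficient of a weighted translated character. -/
noncomputable def wcoef (v : X) (ψ : C → ℂ) (χ : X → ℂ) (ξ : C → ℂ) : ℂ :=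
  (Fintype.card C : ℂ)⁻¹ * ∑ c, χ (v * ι c) * ψ c * conj (ξ c)

theorem card_classes_le {v : X} (hcomm : ∀ c, Commute v (ι c)) (ψ : C → ℂ) (N : ℕ) (m : C → ℕ)
    (hcm : ∀ c, Char.IsCMValue (ψ c)) (hcls : ∀ d c, ψ (d * c * d⁻¹) = ψ c)
    (hm : ∀ c, ψ c * conj (ψ c) = m c)
    (hint : ∀ (χ : IrrCharacter X) (ξ : IrrCharacter C),
      IsIntegral ℤ (wcoef ι v ψ (χ : X → ℂ) (ξ : C → ℂ)))
    (hne : ∀ (χ : IrrCharacter X) (ξ : IrrCharacter C), wcoef ι v ψ (χ : X → ℂ) (ξ : C → ℂ) ≠ 0)
    (hbound : ∀ c, m c * Nat.card (Subgroup.centralizer ({v * ι c} : Set X)) ≤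
      N * Nat.card (Subgroup.centralizer ({c} : Set C))) :
    Nat.card (ConjClasses X) ≤ N := by
  set a : IrrCharacter X → IrrCharacter C → ℂ := fun χ ξ => wcoef ι v ψ (χ : X → ℂ) (ξ : C → ℂ)
  set Z : List ℂ := (Finset.univ : Finset (IrrCharacter X × IrrCharacter C)).toList.map
    fun x => a x.1 x.2 with hZ
  have hnice : ∀ z ∈ Z, IsNice z := fun z hz => by
    obtain ⟨⟨χ, ξ⟩, -, rfl⟩ := List.mem_map.1 hz
    refine ⟨hint χ ξ, ?_⟩
    show Char.IsCMValue ((Fintype.card C : ℂ)⁻¹ * _)
    exact (Char.isCMValue_natCast _).inv.mul (Char.isCMValue_sum _ _ fun c _ =>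
      ((Char.isCMValue_character (Char.isCharacter_of_isIrr χ.2) _).mul (hcm c)).mul
        (Char.isCMValue_character (Char.isCharacter_of_isIrr ξ.2) c).star)
  set W : ℕ := ∑ c : C, m c * Nat.card (Subgroup.centralizer ({v * ι c} : Set X)) with hW
  have hn : (Fintype.card C : ℂ) ≠ 0 := Nat.cast_ne_zero.2 Fintype.card_ne_zero
  have hparseval : ∀ χ : IrrCharacter X, ∑ ξ : IrrCharacter C, a χ ξ * conj (a χ ξ) =
      (Fintype.card C : ℂ)⁻¹ * ∑ c, (χ : X → ℂ) (v * ι c) * ψ c *
        conj ((χ : X → ℂ) (v * ι c) * ψ c) := by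
    intro χ
    set h : C → ℂ := fun c => (χ : X → ℂ) (v * ι c) * ψ c with hh
    have hhc : ∀ c d, IsConj c d → h c = h d := by
      intro c d hcd
      obtain ⟨g, rfl⟩ := isConj_iff.1 hcd
      simp only [hh, hcls, map_mul, map_inv]
      congr 1
      rw [show v * (ι g * ι c * (ι g)⁻¹) = ι g * (v * ι c) * (ι g)⁻¹ by
        rw [← mul_assoc, ← mul_assoc, (hcomm g).eq, mul_assoc (ι g)]]
      exact ((Char.isClassFunction_of_isCharacter (Char.isCharacter_of_isIrr χ.2)) _ _).symm
    have ha : ∀ ξ : IrrCharacter C, a χ ξ * conj (a χ ξ) = (Fintype.card C : ℂ)⁻¹ *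
        ((Fintype.card C : ℂ)⁻¹ * ∑ c, ∑ d, h c * conj (h d) *
          ((ξ : C → ℂ) d * conj ((ξ : C → ℂ) c))) := by
      intro ξ
      simp only [a, wcoef, map_mul, map_inv₀, map_natCast, map_sum, Complex.conj_conj, hh]
      rw [mul_mul_mul_comm, Finset.sum_mul_sum, mul_assoc]
      refine congrArg _ (congrArg _ (Finset.sum_congr rfl fun c _ => Finset.sum_congr rfl fun d _ => ?_))
      ring
    rw [Finset.sum_congr rfl fun ξ _ => ha ξ, ← Finset.mul_sum, ← Finset.mul_sum, Finset.sum_comm]
    congr 1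
    rw [Finset.mul_sum]
    refine Finset.sum_congr rfl fun c _ => ?_
    rw [Finset.sum_comm]
    simp only [← Finset.mul_sum, Char.column_orthogonality, mul_ite, mul_zero]
    rw [Finset.sum_congr rfl fun d _ => (show (if IsConj d c then h c * conj (h d) *
        (Nat.card (Subgroup.centralizer ({c} : Set C)) : ℂ) else 0) =
      if IsConj d c then h c * conj (h c) *
        (Nat.card (Subgroup.centralizer ({c} : Set C)) : ℂ) else 0 by
      split_ifs with hd
      · rw [hhc d c hd]
      · rfl), Finset.sum_ite, Finset.sum_const_zero, add_zero, Finset.sum_const, nsmul_eq_mul]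
    have hcard : ((Finset.univ.filter fun d => IsConj d c).card : ℕ) *
        Nat.card (Subgroup.centralizer ({c} : Set C)) = Fintype.card C := by
      rw [← Fintype.card_subtype, ← Nat.card_eq_fintype_card, Char.card_isConj_eq_index,
        Subgroup.index_mul_card, Nat.card_eq_fintype_card]
    rw [← hcard, Nat.cast_mul]
    have h0 : (Nat.card (Subgroup.centralizer ({c} : Set C)) : ℂ) ≠ 0 :=
      Nat.cast_ne_zero.2 Nat.card_pos.ne'
    have h1 : ((Finset.univ.filter fun d => IsConj d c).card : ℂ) ≠ 0 :=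
      Nat.cast_ne_zero.2 (Finset.card_pos (s := Finset.univ.filter fun d => IsConj d c) |>.2
        ⟨c, Finset.mem_filter.2 ⟨Finset.mem_univ _, IsConj.refl _⟩⟩).ne'
    simp only [hh]
    field_simp
  have hsum : (Z.map fun z => z * conj z).sum = (((W : ℚ) / Fintype.card C : ℚ) : ℂ) := by
    rw [hZ, List.map_map, Finset.sum_map_toList, Fintype.sum_prod_type]
    simp only [Function.comp_apply, hparseval]
    rw [← Finset.mul_sum, Finset.sum_comm, hW]
    push_cast
    rw [div_eq_inv_mul]
    congr 1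
    refine Finset.sum_congr rfl fun c _ => ?_
    have hc : ∀ χ : IrrCharacter X, (χ : X → ℂ) (v * ι c) * ψ c *
        conj ((χ : X → ℂ) (v * ι c) * ψ c) =
        (m c : ℂ) * ((χ : X → ℂ) (v * ι c) * conj ((χ : X → ℂ) (v * ι c))) := fun χ => by
      rw [← hm, map_mul]; ring
    rw [Finset.sum_congr rfl fun χ _ => hc χ, ← Finset.mul_sum, Char.column_orthogonality,
      if_pos (IsConj.refl _)]
  have hle := countP_le hnice hsum
  have hcount : (Z.countP fun z => decide (z ≠ 0)) =
      Nat.card (ConjClasses X) * Nat.card (ConjClasses C) := by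
    rw [List.countP_eq_length.2, hZ, List.length_map, Finset.length_toList, Finset.card_univ,
      Fintype.card_prod, ← Nat.card_eq_fintype_card, ← Nat.card_eq_fintype_card,
      Char.card_irr_eq_card_conjClasses, Char.card_irr_eq_card_conjClasses]
    intro z hz
    obtain ⟨⟨χ, ξ⟩, -, rfl⟩ := List.mem_map.1 hz
    exact decide_eq_true (hne χ ξ)
  have hWle : W ≤ N * (Nat.card (ConjClasses C) * Fintype.card C) := by
    refine (Finset.sum_le_sum fun c _ => hbound c).trans (le_of_eq ?_)
    rw [← Finset.mul_sum, ← Nat.card_eq_fintype_card (α := C),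
      ← card_comm_eq_card_conjClasses_mul_card, Nat.card_eq_fintype_card,
      Fintype.card_congr (Equiv.subtypeProdEquivSigmaSubtype (Commute (S := C))), Fintype.card_sigma]
    congr 1
    refine Finset.sum_congr rfl fun c _ => ?_
    rw [← Nat.card_eq_fintype_card]
    exact Nat.card_congr (Equiv.subtypeEquivRight fun d => by
      rw [Subgroup.mem_centralizer_singleton_iff]; exact ⟨fun h => h.symm, fun h => h.symm⟩)
  rw [hcount] at hle
  push_cast at hle
  rw [le_div_iff₀ (Nat.cast_pos.2 Fintype.card_pos)] at hle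
  have h2 : Nat.card (ConjClasses X) * Nat.card (ConjClasses C) * Fintype.card C ≤ W := by
    exact_mod_cast hle
  refine Nat.le_of_mul_le_mul_right (c := Nat.card (ConjClasses C) * Fintype.card C) ?_
    (Nat.mul_pos Nat.card_pos Fintype.card_pos)
  rw [← mul_assoc]
  exact h2.trans hWle

end CfsgLib.KGV.RealVector
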