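import Cfsg.Agent.Lib.KGV.RealVector.Virtual
import Cfsg.Agent.Lib.RankOne.Restrict
import Cfsg.Agent.Lib.Char.CMValue
import Cfsg.Agent.Lib.Blocks.LocalRing

/-!
Gauss sums attached to an invariant bilinear form with unipotent asymmetry.
-/

set_option autoImplicit false
set_option linter.unusedSectionVars false
set_option linter.style.haveILetI false

namespace CfsgLib.KGV.RealVector

open Finset Cfsg
open scoped ComplexConjugate

variable {p : ℕ} [hp : Fact p.Prime]

/-- The additive character. -/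
noncomputable def e (x : ZMod p) : ℂ := RankOne.psi (ZMod p) x

theorem e_zero : e (0 : ZMod p) = 1 := AddChar.map_zero_eq_one _

theorem e_add (x y : ZMod p) : e (x + y) = e x * e y := AddChar.map_add_eq_mul _ _ _

theorem e_pow_p (x : ZMod p) : e x ^ p = 1 := by
  rw [e, ← AddChar.map_nsmul_eq_pow, nsmul_eq_mul, ZMod.natCast_self, zero_mul,
    AddChar.map_zero_eq_one]

theorem e_eq_pow (x : ZMod p) : e x = e (1 : ZMod p) ^ x.val := by
  rw [e, e, ← AddChar.map_nsmul_eq_pow, nsmul_eq_mul, ZMod.natCast_zmod_val, mul_one]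

theorem e_neg (x : ZMod p) : e (-x) = conj (e x) := by
  have hn : ‖e x‖ = 1 := Complex.norm_eq_one_of_pow_eq_one (e_pow_p x) hp.out.ne_zero
  rw [← Complex.inv_eq_conj hn]
  refine eq_inv_of_mul_eq_one_left ?_
  rw [← e_add, neg_add_cancel, e_zero]

theorem isIntegral_e (x : ZMod p) : IsIntegral ℤ (e x) :=
  IsIntegral.of_pow hp.out.pos (by rw [e_pow_p]; exact isIntegral_one)

theorem isCMValue_e (x : ZMod p) : Char.IsCMValue (e x) :=
  Char.isCMValue_character (Char.isCharacter_monoidHom
    (RankOne.psi (ZMod p)).toMonoidHom.toHomUnits) (Multiplicative.ofAdd x)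

theorem memLocalIdeal_e_sub_one {M : Ideal AlgInt} (hM : IsPModular p M) (x : ZMod p) :
    MemLocalIdeal M (e x - 1) :=
  Blocks.memLocalIdeal_root_sub_one (k := 1) hM (by rw [pow_one]; exact e_pow_p x)

variable {C : Type*} [Group C] {U : Type} [AddCommGroup U] [Module (ZMod p) U]
variable (ρ : Representation (ZMod p) C U)

/-- fixed vectors -/
def fixK (c : C) : Submodule (ZMod p) U := LinearMap.ker (ρ c - 1)

/-- commutator space -/
def comK (c : C) : Submodule (ZMod p) U := LinearMap.range (ρ c - 1)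

variable [Fintype U]

omit [Fintype U] in
theorem mem_fixK {c : C} {u : U} : u ∈ fixK ρ c ↔ ρ c u = u := by
  simp [fixK, sub_eq_zero]

theorem comK_stable {c : C} {u : U} (hu : u ∈ comK ρ c) : ρ c u ∈ comK ρ c := by
  obtain ⟨w, rfl⟩ := hu
  exact ⟨ρ c w, by simp⟩

theorem isCompl_fix_com [Finite C] (hC : ¬ p ∣ Nat.card C) (c : C) :
    IsCompl (fixK ρ c) (comK ρ c) := by
  refine (Submodule.isCompl_iff_disjoint _ _ ?_).2 ?_
  · exact le_of_eq (LinearMap.finrank_range_add_finrank_ker (ρ c - 1)).symm |>.trans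
      (le_of_eq (by rw [fixK, comK, add_comm]))
  rw [Submodule.disjoint_def]
  intro r hr hr'
  obtain ⟨w, rfl⟩ := hr'
  rw [mem_fixK] at hr
  set r := (ρ c - 1) w with hrdef
  have hstep : ρ c w = w + r := by rw [hrdef]; simp
  have hiter : ∀ i : ℕ, ρ (c ^ i) w = w + (i : ZMod p) • r := by
    intro i
    induction i with
    | zero => simp
    | succ i ih =>
      rw [pow_succ', map_mul]
      show ρ c (ρ (c ^ i) w) = _
      rw [ih, map_add, map_smul, hr, hstep]
      push_cast
      rw [add_smul, one_smul]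
      abel
  have h1 := hiter (Nat.card C)
  rw [pow_card_eq_one', map_one, Module.End.one_apply] at h1
  have h2 : (Nat.card C : ZMod p) • r = 0 := left_eq_add.1 h1
  refine (smul_eq_zero.1 h2).resolve_left fun h => hC ?_
  exact (ZMod.natCast_eq_zero_iff _ _).1 h

variable (β : U →ₗ[ZMod p] U →ₗ[ZMod p] ZMod p)

/-- the quadratic function of `c` -/
def qf (c : C) (u : U) : ZMod p := β (u - ρ c u) (ρ c u)

/-- the full Gauss sum -/
noncomputable def gsum (c : C) : ℂ := ∑ u : U, e (qf ρ β c u)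

/-- the reduced Gauss sum -/
noncomputable def gred (c : C) : ℂ := gsum ρ β c / (Nat.card (fixK ρ c) : ℂ)

variable (hβ : ∀ c u w, β (ρ c u) (ρ c w) = β u w)
include hβ

theorem qf_add_fix (c : C) {k : U} (hk : k ∈ fixK ρ c) (r : U) :
    qf ρ β c (k + r) = qf ρ β c r := by
  rw [mem_fixK] at hk
  have h1 : β (r - ρ c r) k = 0 := by
    rw [map_sub, LinearMap.sub_apply]
    have := hβ c r k
    rw [hk] at this
    rw [this, sub_self]
  rw [qf, qf, map_add, hk, add_sub_add_left_eq_sub, map_add, h1, zero_add]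

theorem gsum_eq [Finite C] (hC : ¬ p ∣ Nat.card C) (c : C) [Fintype (comK ρ c)] :
    gsum ρ β c = (Nat.card (fixK ρ c) : ℂ) * ∑ r : comK ρ c, e (qf ρ β c r) := by
  classical
  haveI : Fintype (fixK ρ c) := Fintype.ofFinite _
  rw [gsum, ← Fintype.sum_equiv (Submodule.prodEquivOfIsCompl _ _ (isCompl_fix_com ρ hC c)).toEquiv
    (fun x => e (qf ρ β c ((x.1 : U) + x.2))) (fun u => e (qf ρ β c u)) (fun x => by
      simp [Submodule.coe_prodEquivOfIsCompl']), Fintype.sum_prod_type]
  refine (Finset.sum_congr rfl fun k _ => Finset.sum_congr rfl fun r _ => congrArg e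
      (qf_add_fix ρ β hβ c k.2 r.1)).trans ?_
  simp only [Finset.sum_const, Finset.card_univ, nsmul_eq_mul, Nat.card_eq_fintype_card]

theorem gred_eq [Finite C] (hC : ¬ p ∣ Nat.card C) (c : C) [Fintype (comK ρ c)] :
    gred ρ β c = ∑ r : comK ρ c, e (qf ρ β c r) := by
  rw [gred, gsum_eq ρ β hβ hC, mul_div_cancel_left₀]
  exact Nat.cast_ne_zero.2 Nat.card_pos.ne'

theorem isIntegral_gred [Finite C] (hC : ¬ p ∣ Nat.card C) (c : C) :
    IsIntegral ℤ (gred ρ β c) := by
  haveI : Fintype (comK ρ c) := Fintype.ofFinite _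
  rw [gred_eq ρ β hβ hC]
  exact IsIntegral.sum _ fun r _ => isIntegral_e _

theorem isCMValue_gred [Finite C] (hC : ¬ p ∣ Nat.card C) (c : C) :
    Char.IsCMValue (gred ρ β c) := by
  haveI : Fintype (comK ρ c) := Fintype.ofFinite _
  rw [gred_eq ρ β hβ hC]
  exact Char.isCMValue_sum _ _ fun r _ => isCMValue_e _

theorem gsum_conj (d c : C) : gsum ρ β (d * c * d⁻¹) = gsum ρ β c := by
  have hd : ∀ u, ρ (d * c * d⁻¹) (ρ d u) = ρ d (ρ c u) := fun u => by
    rw [← Module.End.mul_apply, ← map_mul, inv_mul_cancel_right, map_mul, Module.End.mul_apply]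
  let E : U ≃ U :=
    { toFun := ρ d, invFun := ρ d⁻¹
      left_inv := fun u => by rw [← Module.End.mul_apply, ← map_mul, inv_mul_cancel, map_one]; rfl
      right_inv := fun u => by rw [← Module.End.mul_apply, ← map_mul, mul_inv_cancel, map_one]; rfl }
  exact (Fintype.sum_equiv E _ _ fun u => by
    show e (qf ρ β c u) = e (qf ρ β (d * c * d⁻¹) (ρ d u))
    rw [qf, qf, hd, ← map_sub, hβ]).symm

theorem card_fixK_conj (d c : C) :
    Nat.card (fixK ρ (d * c * d⁻¹)) = Nat.card (fixK ρ c) := by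
  have hd : ∀ u, ρ (d * c * d⁻¹) (ρ d u) = ρ d (ρ c u) := fun u => by
    rw [← Module.End.mul_apply, ← map_mul, inv_mul_cancel_right, map_mul, Module.End.mul_apply]
  have hinj : Function.Injective (ρ d) := fun a b h => by
    have := congrArg (ρ d⁻¹) h
    rwa [← Module.End.mul_apply, ← Module.End.mul_apply, ← map_mul, inv_mul_cancel, map_one] at this
  symm
  refine Nat.card_congr (Equiv.ofBijective (fun u => ⟨ρ d u.1, ?_⟩) ⟨fun a b h => ?_, fun w => ?_⟩)
  · rw [mem_fixK, hd, (mem_fixK ρ).1 u.2]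
  · exact Subtype.ext (hinj (congrArg Subtype.val h))
  · have hw := (mem_fixK ρ).1 w.2
    have hdd : ρ d (ρ d⁻¹ w.1) = w.1 := by
      rw [← Module.End.mul_apply, ← map_mul, mul_inv_cancel, map_one]; rfl
    refine ⟨⟨ρ d⁻¹ w.1, (mem_fixK ρ).2 (hinj ?_)⟩, Subtype.ext hdd⟩
    rw [← hd, hdd, hw]

theorem gred_conj (d c : C) : gred ρ β (d * c * d⁻¹) = gred ρ β c := by
  rw [gred, gred, gsum_conj ρ β hβ, card_fixK_conj ρ β hβ]

theorem gsum_one : gsum ρ β 1 = Fintype.card U := by
  simp [gsum, qf, e_zero]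

theorem gred_one : gred ρ β 1 = 1 := by
  rw [gred, gsum_one ρ β hβ, show fixK ρ (1 : C) = ⊤ from by
    rw [eq_top_iff]; intro u _; simp [mem_fixK], ← Nat.card_eq_fintype_card,
    Nat.card_congr (Submodule.topEquiv (R := ZMod p) (M := U)).toEquiv]
  exact div_self (Nat.cast_ne_zero.2 Nat.card_pos.ne')

theorem memLocalIdeal_gred [Finite C] (hC : ¬ p ∣ Nat.card C) {M : Ideal AlgInt}
    (hM : IsPModular p M) {c : C} (hc : ∃ u, ρ c u ≠ u) : MemLocalIdeal M (gred ρ β c) := by
  haveI := Blocks.isPrime_of_isPModular hM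
  haveI : Fintype (comK ρ c) := Fintype.ofFinite _
  obtain ⟨u, hu⟩ := hc
  have hdvd : p ∣ Fintype.card (comK ρ c) := by
    rw [Module.card_eq_pow_finrank (K := ZMod p) (V := comK ρ c), ZMod.card]
    refine dvd_pow_self p ?_
    rw [Submodule.finrank_eq_zero.ne]
    intro h
    have : (ρ c - 1) u ∈ comK ρ c := ⟨u, rfl⟩
    rw [h, Submodule.mem_bot] at this
    exact hu (sub_eq_zero.1 this)
  rw [gred_eq ρ β hβ hC, Blocks.memLocalIdeal_iff_of_sub (w := (Fintype.card (comK ρ c) : ℂ))]
  · exact (Blocks.memLocalIdeal_natCast_iff hM).2 hdvd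
  · rw [show (Fintype.card (comK ρ c) : ℂ) = ∑ _r : comK ρ c, (1 : ℂ) by simp,
      ← Finset.sum_sub_distrib]
    exact Blocks.memLocalIdeal_sum _ _ fun r _ => memLocalIdeal_e_sub_one hM _

omit hβ in
/-- orthogonality for linear functionals -/
theorem sum_e_linear {W : Type*} [AddCommGroup W] [Module (ZMod p) W] [Fintype W]
    (L : W →ₗ[ZMod p] ZMod p) [Decidable (L = 0)] :
    ∑ w, e (L w) = if L = 0 then (Fintype.card W : ℂ) else 0 := by
  split_ifs with hL
  · simp [hL, e_zero]
  · let χ : AddChar W ℂ := ⟨fun w => e (L w), by rw [map_zero, e_zero],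
      fun a b => by rw [map_add, e_add]⟩
    refine (AddChar.sum_eq_zero_iff_ne_zero (ψ := χ)).2 fun h => hL ?_
    ext w
    by_contra hw
    rw [LinearMap.zero_apply] at hw
    have hall : ∀ x : ZMod p, e x = 1 := fun x => by
      have h2 : e (L ((x * (L w)⁻¹) • w)) = 1 := DFunLike.congr_fun h ((x * (L w)⁻¹) • w)
      rwa [map_smul, smul_eq_mul, mul_assoc, inv_mul_cancel₀ hw, mul_one] at h2
    have := RankOne.psi_sum (1 : ZMod p)
    rw [if_neg one_ne_zero, Finset.sum_congr rfl fun x _ => (show RankOne.psi (ZMod p) (1 * x) = 1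
      from by rw [one_mul]; exact hall x), Finset.sum_const, Finset.card_univ, nsmul_one] at this
    exact Nat.cast_ne_zero.2 Fintype.card_ne_zero this

theorem gred_mul_conj [Finite C] (hC : ¬ p ∣ Nat.card C) (T : Module.End (ZMod p) U)
    (hT : ∀ u w, β (T u) w = β w u) (hTn : IsNilpotent (T - 1))
    (hnd : ∀ u, (∀ w, β u w = 0) → u = 0) (c : C) :
    gred ρ β c * conj (gred ρ β c) = (Nat.card (comK ρ c) : ℂ) := by
  classical
  haveI : Fintype (comK ρ c) := Fintype.ofFinite _
  rw [gred_eq ρ β hβ hC, map_sum, Finset.sum_mul_sum, Finset.sum_comm]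
  -- the polar form
  let B : comK ρ c → comK ρ c →ₗ[ZMod p] ZMod p := fun t =>
    ((β ((t : U) - ρ c t)).comp (ρ c) + (β.flip (ρ c t)).comp (1 - ρ c)).comp (comK ρ c).subtype
  have hB : ∀ t s : comK ρ c, qf ρ β c (t + s : comK ρ c) = qf ρ β c t + qf ρ β c s + B t s := by
    intro t s
    simp only [qf, B, Submodule.coe_add, map_add, LinearMap.add_apply, LinearMap.comp_apply,
      Submodule.coe_subtype, LinearMap.sub_apply, Module.End.one_apply, LinearMap.flip_apply,
      map_sub]
    ring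
  have h1 : ∀ s : comK ρ c, ∑ r : comK ρ c, e (qf ρ β c r) * conj (e (qf ρ β c s)) =
      ∑ t : comK ρ c, e (qf ρ β c t) * e (B t s) := fun s => by
    refine (Fintype.sum_equiv (Equiv.addRight s) _ _ fun t => ?_).symm
    rw [Equiv.coe_addRight, hB, e_add, e_add, ← e_neg]
    have h2 : e (qf ρ β c s) * e (-qf ρ β c s) = 1 := by rw [← e_add, add_neg_cancel, e_zero]
    linear_combination (-(e (qf ρ β c t) * e (B t s))) * h2
  rw [Finset.sum_congr rfl fun s _ => h1 s, Finset.sum_comm]
  simp only [← Finset.mul_sum, sum_e_linear]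
  rw [Finset.sum_eq_single (0 : comK ρ c)]
  · rw [if_pos (by ext s; simp [B]), Submodule.coe_zero, show qf ρ β c 0 = 0 by simp [qf], e_zero,
      one_mul, Nat.card_eq_fintype_card]
  · intro t _ ht
    rw [if_neg, mul_zero]
    intro hB0
    refine ht (Subtype.ext ?_)
    -- the polar form is nondegenerate
    have hadj : ∀ a b, β (ρ c a) b = β a (ρ c⁻¹ b) := fun a b => by
      conv_rhs => rw [← hβ c]
      rw [← Module.End.mul_apply, ← map_mul, mul_inv_cancel, map_one, Module.End.one_apply]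
    have hinv : ∀ x : U, ρ c⁻¹ (ρ c x) = x := fun x => by
      rw [← Module.End.mul_apply, ← map_mul, inv_mul_cancel, map_one, Module.End.one_apply]
    have hinv' : ∀ x : U, ρ c (ρ c⁻¹ x) = x := fun x => by
      rw [← Module.End.mul_apply, ← map_mul, mul_inv_cancel, map_one, Module.End.one_apply]
    set z : U := (ρ c⁻¹ (t : U) - t) + (T (ρ c t) - ρ c⁻¹ (T (ρ c t))) with hz
    have hfix : ∀ k ∈ fixK ρ c, β z k = 0 := by
      intro k hk
      rw [mem_fixK] at hk
      have hzz : ∀ a, β (ρ c⁻¹ a) k = β a k := fun a => by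
        have := hβ c (ρ c⁻¹ a) k
        rw [hinv', hk] at this
        exact this.symm
      simp [hz, hzz]
    have hall : ∀ w, β z w = 0 := by
      intro w
      obtain ⟨k, hk, r, hr, rfl⟩ := Submodule.mem_sup.1
        ((isCompl_fix_com ρ hC c).sup_eq_top.ge (Submodule.mem_top (x := w)))
      have h3 : β ((t : U) - ρ c t) (ρ c r) + β (r - ρ c r) (ρ c t) = 0 := by
        simpa [B] using DFunLike.congr_fun hB0 ⟨r, hr⟩
      rw [map_add, hfix k hk, zero_add, hz, map_add, LinearMap.add_apply, map_sub, map_sub,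
        LinearMap.sub_apply, LinearMap.sub_apply]
      rw [map_sub, LinearMap.sub_apply, map_sub β r, LinearMap.sub_apply, hβ c t r, hadj r] at h3
      have e1 : β (ρ c⁻¹ (t : U)) r = β (t : U) (ρ c r) := by
        have := hβ c (ρ c⁻¹ (t : U)) r
        rw [hinv'] at this
        exact this.symm
      have e2 : β (T (ρ c t)) r = β r (ρ c t) := hT _ _
      have e3 : β (ρ c⁻¹ (T (ρ c t))) r = β (ρ c r) (ρ c t) := by
        have := hβ c (ρ c⁻¹ (T (ρ c t))) r
        rw [hinv', hT] at this
        exact this.symm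
      rw [e1, e2, e3, hadj r]
      exact h3
    have hz0 := hnd z hall
    have hw : T (ρ c t) - t ∈ fixK ρ c := by
      rw [mem_fixK]
      have h4 := congrArg (ρ c) hz0
      rw [hz, map_zero, map_add, map_sub, map_sub, hinv', hinv'] at h4
      rw [map_sub, ← sub_eq_zero]
      rw [← h4]
      abel
    have hTc : ∀ (d : C) x, T (ρ d x) = ρ d (T x) := fun d x => by
      refine sub_eq_zero.1 (hnd _ fun w => ?_)
      have hdd : ρ d (ρ d⁻¹ w) = w := by
        rw [← Module.End.mul_apply, ← map_mul, mul_inv_cancel, map_one, Module.End.one_apply]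
      rw [map_sub, LinearMap.sub_apply, hT, ← hdd, hβ, hβ, hT, sub_self]
    have hTcom : ∀ x ∈ comK ρ c, T x ∈ comK ρ c := by
      rintro x ⟨y, rfl⟩
      exact ⟨T y, by simp [hTc]⟩
    have hw0 : T (ρ c t) = t := sub_eq_zero.1 (Submodule.disjoint_def.1
      (isCompl_fix_com ρ hC c).disjoint _ hw (sub_mem (hTcom _ (comK_stable ρ t.2)) t.2))
    -- descend along `T - 1`
    obtain ⟨N, hN⟩ := hTn
    have key : ∀ i x, x ∈ comK ρ c → T (ρ c x) = x → ((T - 1) ^ i : Module.End (ZMod p) U) x = 0 → x = 0 := by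
      intro i
      induction i with
      | zero => intro x _ _ h; simpa using h
      | succ i ih =>
        intro x hx hTx h
        rw [pow_succ, Module.End.mul_apply] at h
        have hy : (T - 1) x = 0 := ih _ (by
          rw [LinearMap.sub_apply, Module.End.one_apply]; exact sub_mem (hTcom x hx) hx) (by
          rw [LinearMap.sub_apply, Module.End.one_apply, map_sub, map_sub, ← hTc, hTx]) h
        rw [LinearMap.sub_apply, Module.End.one_apply, sub_eq_zero] at hy
        rw [hTc, hy] at hTx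
        exact Submodule.disjoint_def.1 (isCompl_fix_com ρ hC c).disjoint x ((mem_fixK ρ).2 hTx) hx
    simpa using key N t t.2 hw0 (by rw [hN]; simp)
  · intro h; exact absurd (Finset.mem_univ _) h

theorem isVT_gsum [DecidableEq U] : IsVT (gsum ρ β) := by
  let Tm : Matrix U U ℂ := fun u w => e (β (u - w) w)
  let P : C →* Matrix U U ℂ :=
    { toFun := fun c => Matrix.of fun u w => if u = ρ c w then 1 else 0
      map_one' := by ext u w; simp [Matrix.one_apply]
      map_mul' := fun a b => by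
        ext u w
        rw [Matrix.mul_apply, Finset.sum_eq_single (ρ b w)]
        all_goals simp only [Matrix.of_apply]
        · simp
        · intro x _ hx; simp [hx]
        · intro h; exact absurd (Finset.mem_univ _) h }
  refine ⟨U, inferInstance, inferInstance, P, Tm, ?_, fun c => ?_, fun c => ?_⟩
  · let S : Subalgebra ℤ ℂ := Algebra.adjoin ℤ {e (1 : ZMod p)}
    haveI : Module.Finite ℤ S := Module.Finite.iff_fg.2 (isIntegral_e (1 : ZMod p)).fg_adjoin_singleton
    have hmem : ∀ u w, Tm u w ∈ S := fun u w => by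
      show e (β (u - w) w) ∈ S
      rw [e_eq_pow]
      exact S.pow_mem (Algebra.subset_adjoin rfl) _
    have h : IsIntegral ℤ (Matrix.of fun u w => (⟨Tm u w, hmem u w⟩ : S)) := IsIntegral.of_finite ℤ _
    exact h.map S.val.mapMatrix
  · have hcc : ∀ x, ρ c (ρ c⁻¹ x) = x := fun x => by
      rw [← Module.End.mul_apply, ← map_mul, mul_inv_cancel, map_one, Module.End.one_apply]
    have hcc' : ∀ x, ρ c⁻¹ (ρ c x) = x := fun x => by
      rw [← Module.End.mul_apply, ← map_mul, inv_mul_cancel, map_one, Module.End.one_apply]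
    ext u w
    rw [Matrix.mul_apply, Matrix.mul_apply, Finset.sum_eq_single (ρ c w),
      Finset.sum_eq_single (ρ c⁻¹ u)]
    · show e (β (u - ρ c w) (ρ c w)) * (if ρ c w = ρ c w then 1 else 0) =
        (if u = ρ c (ρ c⁻¹ u) then 1 else 0) * e (β (ρ c⁻¹ u - w) w)
      rw [if_pos rfl, hcc, if_pos rfl, mul_one, one_mul,
        show β (u - ρ c w) (ρ c w) = β (ρ c⁻¹ u - w) w by rw [← hβ c (ρ c⁻¹ u - w) w, map_sub (ρ c), hcc]]
    · intro x _ hx
      show (if u = ρ c x then (1 : ℂ) else 0) * _ = 0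
      rw [if_neg (fun h => hx (by rw [h, hcc'])), zero_mul]
    · intro h; exact absurd (Finset.mem_univ _) h
    · intro x _ hx
      show _ * (if x = ρ c w then (1 : ℂ) else 0) = 0
      rw [if_neg hx, mul_zero]
    · intro h; exact absurd (Finset.mem_univ _) h
  · refine Finset.sum_congr rfl fun u _ => ?_
    show _ = Matrix.diag (Tm * P c) u
    rw [Matrix.diag_apply, Matrix.mul_apply, Finset.sum_eq_single (ρ c u)]
    · show _ = e _ * (if ρ c u = ρ c u then 1 else 0)
      rw [if_pos rfl, mul_one]; rfl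
    · intro x _ hx
      show _ * (if x = ρ c u then (1 : ℂ) else 0) = 0
      rw [if_neg hx, mul_zero]
    · intro h; exact absurd (Finset.mem_univ _) h

end CfsgLib.KGV.RealVector
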