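import Cfsg.Agent.Lib.KGV.RealVector.Weil
import Cfsg.Agent.Lib.Classical.Forms

/-!
A square root of the weight `#[U, c]` for a self-dual module.
-/

set_option autoImplicit false
set_option linter.unusedSectionVars false
set_option linter.style.haveILetI false

namespace CfsgLib.KGV.RealVector

open Finset Cfsg
open scoped ComplexConjugate

variable {p : ℕ} [hp : Fact p.Prime] {C : Type*} [Group C]

theorem IsVT.const_mul {φ : C → ℂ} (h : IsVT φ) {z : ℂ} (hz : IsIntegral ℤ z) :
    IsVT fun c => z * φ c := by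
  refine IsVT.mul (φ := fun _ => z) ⟨Fin 1, inferInstance, inferInstance, 1,
    Matrix.scalar (Fin 1) z,
    hz.map (Matrix.scalar (Fin 1) : ℂ →+* Matrix (Fin 1) (Fin 1) ℂ).toIntAlgHom, fun c => by simp,
    fun c => by simp⟩ h

/-- A square root of the weight, with its arithmetic properties. -/
structure Good {U : Type} [AddCommGroup U] [Module (ZMod p) U] (ρ : Representation (ZMod p) C U)
    (ψ : C → ℂ) : Prop where
  cm : ∀ c, Char.IsCMValue (ψ c)
  cls : ∀ d c, ψ (d * c * d⁻¹) = ψ c
  one : ψ 1 = 1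
  int : ∀ c, IsIntegral ℤ (ψ c)
  ideal : ∀ M : Ideal AlgInt, IsPModular p M → ∀ c, (∃ u, ρ c u ≠ u) → MemLocalIdeal M (ψ c)
  normSq : ∀ c, ψ c * conj (ψ c) * (Nat.card (fixK ρ c) : ℂ) = (Nat.card U : ℂ)
  vt : IsVT fun c => ψ c * (Nat.card (fixK ρ c) : ℂ)

section

variable {U : Type} [AddCommGroup U] [Module (ZMod p) U] [Fintype U]
  (ρ : Representation (ZMod p) C U)

theorem isVT_card_fix : IsVT fun c => (Nat.card (fixK ρ c) : ℂ) := by
  classical
  let P : C →* Matrix U U ℂ :=
    { toFun := fun c => Matrix.of fun u w => if u = ρ c w then 1 else 0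
      map_one' := by ext u w; simp [Matrix.one_apply]
      map_mul' := fun a b => by
        ext u w
        rw [Matrix.mul_apply, Finset.sum_eq_single (ρ b w)]
        all_goals simp only [Matrix.of_apply]
        · simp
        · intro x _ hx; simp [hx]
        · intro h; exact absurd (Finset.mem_univ _) h }
  refine ⟨U, inferInstance, inferInstance, P, 1, isIntegral_one, fun c => by rw [one_mul, mul_one],
    fun c => ?_⟩
  haveI : Fintype (fixK ρ c) := Fintype.ofFinite _
  show ((Nat.card (fixK ρ c) : ℕ) : ℂ) = _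
  rw [one_mul, Nat.card_eq_fintype_card, Fintype.card_subtype]
  show _ = ∑ u, (if u = ρ c u then (1 : ℂ) else 0)
  rw [Finset.sum_boole]
  congr 2
  ext u
  simp [mem_fixK, eq_comm]

theorem good_gauss [Finite C] (hC : ¬ p ∣ Nat.card C) (β : U →ₗ[ZMod p] U →ₗ[ZMod p] ZMod p)
    (hβ : ∀ c u w, β (ρ c u) (ρ c w) = β u w) (T : Module.End (ZMod p) U)
    (hT : ∀ u w, β (T u) w = β w u) (hTn : IsNilpotent (T - 1))
    (hnd : ∀ u, (∀ w, β u w = 0) → u = 0) : Good ρ (gred ρ β) where
  cm := isCMValue_gred ρ β hβ hC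
  cls := gred_conj ρ β hβ
  one := gred_one ρ β hβ
  int := isIntegral_gred ρ β hβ hC
  ideal := fun _ hM _ hc => memLocalIdeal_gred ρ β hβ hC hM hc
  normSq := fun c => by
    rw [gred_mul_conj ρ β hβ hC T hT hTn hnd, ← Nat.cast_mul, ← Nat.card_prod]
    exact congrArg _ (Nat.card_congr ((Equiv.prodComm _ _).trans
      (Submodule.prodEquivOfIsCompl _ _ (isCompl_fix_com ρ hC c)).toEquiv))
  vt := by
    classical
    convert isVT_gsum ρ β hβ using 1
    funext c
    rw [gred, div_mul_cancel₀]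
    exact Nat.cast_ne_zero.2 Nat.card_pos.ne'

end

theorem Good.map {U U' : Type} [AddCommGroup U] [Module (ZMod p) U] [AddCommGroup U']
    [Module (ZMod p) U'] {ρ : Representation (ZMod p) C U} {ρ' : Representation (ZMod p) C U'}
    {ψ : C → ℂ} (h : Good ρ ψ) (e : U ≃ₗ[ZMod p] U') (he : ∀ c u, e (ρ c u) = ρ' c (e u)) :
    Good ρ' ψ := by
  have hc : ∀ c, Nat.card (fixK ρ' c) = Nat.card (fixK ρ c) := fun c => by
    refine (Nat.card_congr (e.toEquiv.subtypeEquiv fun u => ?_)).symm
    show u ∈ fixK ρ c ↔ e u ∈ fixK ρ' c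
    rw [mem_fixK, mem_fixK, ← he, EmbeddingLike.apply_eq_iff_eq]
  refine ⟨h.cm, h.cls, h.one, h.int, fun M hM c ⟨u, hu⟩ => h.ideal M hM c ⟨e.symm u, fun h' => hu ?_⟩,
    fun c => ?_, ?_⟩
  · have := congrArg e h'
    rwa [he, LinearEquiv.apply_symm_apply] at this
  · rw [hc, h.normSq, Nat.card_congr e.toEquiv]
  · simpa only [hc] using h.vt

theorem Good.prod {U₁ U₂ U : Type} [AddCommGroup U₁] [Module (ZMod p) U₁] [AddCommGroup U₂]
    [Module (ZMod p) U₂] [AddCommGroup U] [Module (ZMod p) U]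
    {ρ₁ : Representation (ZMod p) C U₁} {ρ₂ : Representation (ZMod p) C U₂}
    {ρ : Representation (ZMod p) C U} {ψ₁ ψ₂ : C → ℂ} (h₁ : Good ρ₁ ψ₁) (h₂ : Good ρ₂ ψ₂)
    (e : (U₁ × U₂) ≃ₗ[ZMod p] U) (he : ∀ c x, ρ c (e x) = e (ρ₁ c x.1, ρ₂ c x.2)) :
    Good ρ fun c => ψ₁ c * ψ₂ c := by
  have hiff : ∀ c x, ρ c (e x) = e x ↔ ρ₁ c x.1 = x.1 ∧ ρ₂ c x.2 = x.2 := fun c x => by
    rw [he, EmbeddingLike.apply_eq_iff_eq, Prod.ext_iff]
  have hc : ∀ c, Nat.card (fixK ρ c) = Nat.card (fixK ρ₁ c) * Nat.card (fixK ρ₂ c) := fun c => by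
    rw [← Nat.card_prod]
    refine (Nat.card_congr (Equiv.ofBijective
      (fun x : fixK ρ₁ c × fixK ρ₂ c => (⟨e (x.1.1, x.2.1), (mem_fixK ρ).2 ((hiff c _).2
        ⟨(mem_fixK ρ₁).1 x.1.2, (mem_fixK ρ₂).1 x.2.2⟩)⟩ : fixK ρ c))
      ⟨fun a b h => ?_, fun u => ?_⟩)).symm
    · have := e.injective (congrArg Subtype.val h)
      simp only [Prod.ext_iff] at this
      exact Prod.ext (Subtype.ext this.1) (Subtype.ext this.2)
    · obtain ⟨x, hx⟩ := e.surjective u.1
      have h := (hiff c x).1 (by rw [hx]; exact (mem_fixK ρ).1 u.2)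
      exact ⟨(⟨x.1, (mem_fixK ρ₁).2 h.1⟩, ⟨x.2, (mem_fixK ρ₂).2 h.2⟩), Subtype.ext hx⟩
  refine ⟨fun c => (h₁.cm c).mul (h₂.cm c), fun d c => by simp only [h₁.cls, h₂.cls],
    by simp only [h₁.one, h₂.one, one_mul], fun c => (h₁.int c).mul (h₂.int c),
    fun M hM c ⟨u, hu⟩ => ?_, fun c => ?_, ?_⟩
  · haveI := Blocks.isPrime_of_isPModular hM
    obtain ⟨x, rfl⟩ := e.surjective u
    rw [Ne, hiff, not_and_or] at hu
    rcases hu with hu | hu
    · exact Blocks.memLocalIdeal_mul_right (h₁.ideal M hM c ⟨_, hu⟩)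
        (Blocks.memLocalRing_of_isIntegral (h₂.int c))
    · exact Blocks.memLocalIdeal_mul_left (Blocks.memLocalRing_of_isIntegral (h₁.int c))
        (h₂.ideal M hM c ⟨_, hu⟩)
  · rw [hc, Nat.cast_mul, map_mul, ← Nat.card_congr e.toEquiv, Nat.card_prod, Nat.cast_mul,
      ← h₁.normSq c, ← h₂.normSq c]
    ring
  · convert h₁.vt.mul h₂.vt using 1
    funext c
    rw [hc, Nat.cast_mul]
    ring

theorem good_weil [Finite C] (hC : ¬ p ∣ Nat.card C) {n : ℕ}
    (σ : C →* Matrix.symplecticGroup (Fin n) (ZMod p)) (h2 : (2 : ZMod p) ≠ 0) :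
    Good (natRep σ) (wred σ h2) where
  cm := isCMValue_wred σ h2
  cls := wred_conj σ h2
  one := wred_one σ h2
  int := isIntegral_wred σ h2 hC
  ideal := fun _ hM _ hc => memLocalIdeal_wred σ h2 hC hM hc
  normSq := fun c => by
    rw [wred_mul_conj, div_mul_cancel₀ _ (Nat.cast_ne_zero.2 Nat.card_pos.ne'),
      Nat.card_eq_fintype_card, Fintype.card_fun, ZMod.card, Fintype.card_sum, Fintype.card_fin]
    push_cast
    ring
  vt := by
    have h := (isVT_wchar σ h2).const_mul
      ((isIntegral_algebraMap (R := ℤ) (A := ℂ) (x := (p : ℤ))).pow n)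
    convert h using 1
    funext c
    rw [wred, div_mul_cancel₀ _ (Nat.cast_ne_zero.2 Nat.card_pos.ne')]
    simp

/-- The restriction to an invariant submodule. -/
def subRep {U : Type} [AddCommGroup U] [Module (ZMod p) U] (ρ : Representation (ZMod p) C U)
    (K : Submodule (ZMod p) U) (hK : ∀ c, ∀ u ∈ K, ρ c u ∈ K) : Representation (ZMod p) C K where
  toFun c := (ρ c).restrict (hK c)
  map_one' := LinearMap.ext fun u => Subtype.ext (by
    show ρ 1 (u : U) = u
    rw [map_one]; rfl)
  map_mul' a b := LinearMap.ext fun u => Subtype.ext (by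
    show ρ (a * b) (u : U) = ρ a (ρ b u)
    rw [map_mul]; rfl)

theorem exists_good_alt [Finite C] (hC : ¬ p ∣ Nat.card C) {U : Type} [AddCommGroup U]
    [Module (ZMod p) U] [Fintype U] (ρ : Representation (ZMod p) C U)
    (A : U →ₗ[ZMod p] U →ₗ[ZMod p] ZMod p) (hA : ∀ c u w, A (ρ c u) (ρ c w) = A u w)
    (halt : ∀ u, A u u = 0) (hnd : ∀ u, (∀ w, A u w = 0) → u = 0) :
    ∃ ψ, Good ρ ψ := by
  classical
  by_cases h2 : (2 : ZMod p) = 0
  · refine ⟨_, good_gauss ρ hC A hA 1 (fun u w => ?_) (by rw [sub_self]; exact IsNilpotent.zero) hnd⟩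
    have h := halt (u + w)
    simp only [map_add, LinearMap.add_apply, halt, zero_add, add_zero] at h
    rw [Module.End.one_apply]
    linear_combination h - (A w u) * h2
  obtain ⟨m, b, hb1, hb2, hb3⟩ := CfsgLib.Forms.exists_symplectic_basis_nondeg
    (LinearMap.BilinForm.flip A) (fun u => halt u) (fun u hu => hnd u fun w => by
      have h := halt (u + w)
      simp only [map_add, LinearMap.add_apply, halt, zero_add, add_zero] at h
      have := hu w
      rw [LinearMap.BilinForm.flip_apply] at this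
      linear_combination h - this)
  let B : LinearMap.BilinForm (ZMod p) U := LinearMap.BilinForm.flip A
  set E := b.equivFun with hE
  have hanti : ∀ u w, B u w = - B w u := fun u w => by
    have h := halt (u + w)
    simp only [map_add, LinearMap.add_apply, halt, zero_add, add_zero] at h
    simp only [B, LinearMap.BilinForm.flip_apply]
    linear_combination h
  let J : LinearMap.BilinForm (ZMod p) (Fin m ⊕ Fin m → ZMod p) :=
    LinearMap.mk₂ (ZMod p) (fun u v => Cfsg.sympForm m (ZMod p) u v)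
      CfsgLib.Classical.SympTrans.f_add_left CfsgLib.Classical.SympTrans.f_smul_left
      CfsgLib.Classical.SympTrans.f_add_right CfsgLib.Classical.SympTrans.f_smul_right
  have hJ : ∀ u w, B u w = -J (E u) (E w) := by
    have : B = -(J.compl₁₂ E.toLinearMap E.toLinearMap) := by
      refine b.ext fun i => b.ext fun j => ?_
      simp only [LinearMap.neg_apply, LinearMap.compl₁₂_apply, LinearEquiv.coe_coe, J,
        LinearMap.mk₂_apply, hE, Module.Basis.equivFun_apply, Module.Basis.repr_self,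
        Finsupp.single_eq_pi_single]
      rcases i with i | i <;> rcases j with j | j
      · rw [hb2, CfsgLib.Classical.SympTrans.f_inl]; simp
      · rw [hb1, CfsgLib.Classical.SympTrans.f_inr, neg_neg]
        by_cases h : i = j
        · subst h; simp
        · rw [if_neg h, Pi.single_eq_of_ne (fun h' => h (Sum.inl_injective h').symm)]
      · rw [hanti, hb1, CfsgLib.Classical.SympTrans.f_inl]
        by_cases h : j = i
        · subst h; simp
        · rw [if_neg h, Pi.single_eq_of_ne (fun h' => h (Sum.inr_injective h')), neg_zero]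
      · rw [hb3, CfsgLib.Classical.SympTrans.f_inr]; simp
    intro u w
    exact DFunLike.congr_fun (DFunLike.congr_fun this u) w
  let M : C → Matrix (Fin m ⊕ Fin m) (Fin m ⊕ Fin m) (ZMod p) := fun c =>
    LinearMap.toMatrix' (E.toLinearMap ∘ₗ ρ c ∘ₗ E.symm.toLinearMap)
  have hMv : ∀ c x, Matrix.mulVec (M c) x = E (ρ c (E.symm x)) := fun c x =>
    LinearMap.toMatrix'_mulVec _ _
  have hmem : ∀ c, M c ∈ Matrix.symplecticGroup (Fin m) (ZMod p) := fun c => by
    rw [CfsgLib.Classical.SympTrans.mem_iff_f]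
    intro u v
    rw [hMv, hMv]
    have h1 : B (ρ c (E.symm u)) (ρ c (E.symm v)) = B (E.symm u) (E.symm v) := by
      simp only [B, LinearMap.BilinForm.flip_apply]; exact hA c _ _
    rw [hJ, hJ, LinearEquiv.apply_symm_apply, LinearEquiv.apply_symm_apply] at h1
    exact neg_injective h1
  let σ : C →* Matrix.symplecticGroup (Fin m) (ZMod p) :=
    { toFun := fun c => ⟨M c, hmem c⟩
      map_one' := Subtype.ext (Matrix.ext_of_mulVec_single fun i => by
        show Matrix.mulVec (M 1) _ = Matrix.mulVec 1 _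
        rw [hMv, map_one, Module.End.one_apply, LinearEquiv.apply_symm_apply, Matrix.one_mulVec])
      map_mul' := fun a c => Subtype.ext (Matrix.ext_of_mulVec_single fun i => by
        show Matrix.mulVec (M (a * c)) _ = Matrix.mulVec (M a * M c) _
        rw [← Matrix.mulVec_mulVec, hMv, hMv, hMv, map_mul, Module.End.mul_apply,
          LinearEquiv.symm_apply_apply]) }
  refine ⟨_, (good_weil hC σ h2).map E.symm fun c x => ?_⟩
  rw [natRep_apply]
  show E.symm (Matrix.mulVec (M c) x) = _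
  rw [hMv, LinearEquiv.symm_apply_apply]

theorem exists_good [Finite C] (hC : ¬ p ∣ Nat.card C) {U : Type} [AddCommGroup U]
    [Module (ZMod p) U] [Fintype U] (ρ : Representation (ZMod p) C U)
    (β : U →ₗ[ZMod p] U →ₗ[ZMod p] ZMod p) (hβ : ∀ c u w, β (ρ c u) (ρ c w) = β u w)
    (hnd : ∀ u, (∀ w, β u w = 0) → u = 0) : ∃ ψ, Good ρ ψ := by
  classical
  have hinj : Function.Injective β := (injective_iff_map_eq_zero β).2 fun u hu => hnd u fun w => by
    rw [hu]; rfl
  set φ := LinearEquiv.ofInjectiveOfFinrankEq β hinj Subspace.dual_finrank_eq.symm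
  set T : Module.End (ZMod p) U := φ.symm.toLinearMap.comp β.flip with hTdef
  have hT : ∀ u w, β (T u) w = β w u := fun u w => by
    have h : φ (T u) = β.flip u := φ.apply_symm_apply _
    exact DFunLike.congr_fun h w
  have hTc : ∀ c x, T (ρ c x) = ρ c (T x) := fun c x => by
    refine sub_eq_zero.1 (hnd _ fun w => ?_)
    have hdd : ρ c (ρ c⁻¹ w) = w := by
      rw [← Module.End.mul_apply, ← map_mul, mul_inv_cancel, map_one, Module.End.one_apply]
    rw [map_sub, LinearMap.sub_apply, hT, ← hdd, hβ, hβ, hT, sub_self]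
  have hTinj : Function.Injective T := (injective_iff_map_eq_zero T).2 fun u hu => hnd u fun w => by
    have h3 : β (T u) (T w) = β u w := by rw [hT, hT]
    rw [← h3, hu, map_zero]; rfl
  set N : Module.End (ZMod p) U := 1 - T with hNdef
  obtain ⟨k, hk⟩ := Filter.eventually_atTop.1 N.eventually_isCompl_ker_pow_range_pow
  set n := k + 1 with hn
  set K := LinearMap.ker (N ^ n) with hKdef
  set R := LinearMap.range (N ^ n) with hRdef
  have hcompl : IsCompl K R := hk n (by omega)
  have hcN : ∀ c, Commute (ρ c) N := fun c => LinearMap.ext fun x => by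
    simp only [hNdef, Module.End.mul_apply, LinearMap.sub_apply, Module.End.one_apply, map_sub, hTc]
  have hcn : ∀ c x, ρ c ((N ^ n) x) = (N ^ n) (ρ c x) := fun c x =>
    DFunLike.congr_fun ((hcN c).pow_right n).eq x
  have hKc : ∀ c, ∀ u ∈ K, ρ c u ∈ K := fun c u hu => by
    rw [hKdef, LinearMap.mem_ker, ← hcn, LinearMap.mem_ker.1 hu, map_zero]
  have hRc : ∀ c, ∀ u ∈ R, ρ c u ∈ R := by
    rintro c _ ⟨w, rfl⟩
    exact ⟨ρ c w, (hcn c w).symm⟩
  have hTN : ∀ i, Commute T (N ^ i) := fun i =>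
    ((Commute.one_right T).sub_right (Commute.refl T)).pow_right i
  have hTi : ∀ i x, T ((N ^ i) x) = (N ^ i) (T x) := fun i x => DFunLike.congr_fun (hTN i).eq x
  have hiso : ∀ u w, β (T u) (T w) = β u w := fun u w => by rw [hT, hT]
  have hsurj := LinearMap.surjective_of_injective hTinj
  have horth : ∀ i u x, (N ^ i) x = 0 → β ((N ^ i) u) x = 0 := by
    intro i
    induction i with
    | zero => intro u x hx; rw [show x = 0 by simpa using hx, map_zero]
    | succ i ih =>
      intro u x hx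
      obtain ⟨x', rfl⟩ := hsurj x
      have hx' : (N ^ i) (N x') = 0 := by
        rw [← hTi] at hx
        rw [← Module.End.mul_apply, ← pow_succ]
        exact hTinj (hx.trans (map_zero T).symm)
      rw [pow_succ', Module.End.mul_apply]
      have h := ih u _ hx'
      simp only [hNdef, LinearMap.sub_apply, Module.End.one_apply, map_sub] at h ⊢
      rw [hiso]
      linear_combination -h
  have hRK : ∀ r ∈ R, ∀ x ∈ K, β r x = 0 := by
    rintro _ ⟨u, rfl⟩ x hx
    exact horth n u x (LinearMap.mem_ker.1 hx)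
  have hTR : ∀ r ∈ R, T r ∈ R := by
    rintro _ ⟨u, rfl⟩
    exact ⟨T u, (hTi n u).symm⟩
  have hTK : ∀ x ∈ K, T x ∈ K := fun x hx => by
    rw [hKdef, LinearMap.mem_ker, ← hTi, LinearMap.mem_ker.1 hx, map_zero]
  have hKR : ∀ x ∈ K, ∀ r ∈ R, β x r = 0 := fun x hx r hr => by
    rw [← hT]
    exact hRK _ (hTR r hr) x hx
  have hsplit : ∀ w, ∃ a ∈ K, ∃ b ∈ R, a + b = w := fun w =>
    Submodule.mem_sup.1 (hcompl.sup_eq_top.ge (Submodule.mem_top (x := w)))
  haveI : Fintype K := Fintype.ofFinite _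
  haveI : Fintype R := Fintype.ofFinite _
  -- the unipotent part
  have hTKn : IsNilpotent (T.restrict hTK - 1) := by
    refine ⟨n, LinearMap.ext fun x => Subtype.ext ?_⟩
    have h : ∀ i, (((T.restrict hTK - 1) ^ i : Module.End (ZMod p) K) x : U) =
        ((T - 1) ^ i : Module.End (ZMod p) U) x := by
      intro i
      induction i with
      | zero => rfl
      | succ i ih => rw [pow_succ', pow_succ', Module.End.mul_apply, Module.End.mul_apply, ← ih]; rfl
    rw [h, show T - 1 = -N by rw [hNdef]; abel, neg_pow, Module.End.mul_apply,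
      LinearMap.mem_ker.1 x.2, map_zero]
    rfl
  have hgK := good_gauss (subRep ρ K hKc) hC (β.compl₁₂ K.subtype K.subtype)
    (fun c u w => hβ c u w) (T.restrict hTK) (fun u w => hT u w) hTKn (fun u hu => Subtype.ext
      (hnd u fun w => by
        obtain ⟨a, ha, b, hb, rfl⟩ := hsplit w
        rw [map_add, hKR u u.2 b hb, add_zero]
        exact hu ⟨a, ha⟩))
  -- the other part
  have hNR : ∀ r ∈ R, N r ∈ R := by
    rintro _ ⟨u, rfl⟩
    exact ⟨N u, DFunLike.congr_fun (Commute.pow_self N n).eq u⟩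
  have hA : ∀ u w, β u w - β w u = β (N u) w := fun u w => by
    simp only [hNdef, LinearMap.sub_apply, Module.End.one_apply, map_sub, hT]
  obtain ⟨ψR, hgR⟩ := exists_good_alt hC (subRep ρ R hRc)
    ((β - β.flip).compl₁₂ R.subtype R.subtype)
    (fun c u w => by
      show β (ρ c u) (ρ c w) - β (ρ c w) (ρ c u) = β u w - β w u
      rw [hβ, hβ])
    (fun u => sub_self _) (fun u hu => Subtype.ext (by
      have h1 : β (N u) = 0 := LinearMap.ext fun w => by
        obtain ⟨a, ha, b, hb, rfl⟩ := hsplit w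
        rw [map_add, hRK _ (hNR u u.2) a ha, zero_add, ← hA]
        exact hu ⟨b, hb⟩
      have h2 : N (u : U) = 0 := hnd _ fun w => by rw [h1]; rfl
      refine Submodule.disjoint_def.1 hcompl.disjoint u ?_ u.2
      rw [hKdef, LinearMap.mem_ker, hn, pow_succ, Module.End.mul_apply, h2, map_zero]))
  exact ⟨_, hgK.prod hgR (Submodule.prodEquivOfIsCompl K R hcompl) fun c x => by
    rw [Submodule.coe_prodEquivOfIsCompl', map_add, Submodule.coe_prodEquivOfIsCompl']
    rfl⟩

end CfsgLib.KGV.RealVector
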