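import Mathlib
import Cfsg.Prelude.Def_Characters
import Cfsg.Agent.Lib.Char.Basic

/-!
# Traces of integral operators commuting with a representation

Their averages over the group are algebraic integers.
-/

set_option autoImplicit false
set_option linter.unusedSectionVars false

namespace CfsgLib.KGV.RealVector

open Matrix Polynomial Finset
open scoped Kronecker

variable {C : Type*} [Group C]

theorem isIntegral_trace {n : Type*} [Fintype n] [DecidableEq n] {B : Matrix n n ℂ}
    (hB : IsIntegral ℤ B) : IsIntegral ℤ (Matrix.trace B) := by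
  obtain ⟨f, hf, hf0⟩ := hB
  rw [Matrix.trace_eq_sum_roots_charpoly]
  refine IsIntegral.multiset_sum fun μ hμ => ?_
  rw [Polynomial.mem_roots (Matrix.charpoly_monic B).ne_zero,
    ← Matrix.mem_spectrum_iff_isRoot_charpoly] at hμ
  refine ⟨f, hf, ?_⟩
  have h1 := spectrum.subset_polynomial_aeval B (f.map (algebraMap ℤ ℂ)) ⟨μ, hμ, rfl⟩
  rw [Polynomial.aeval_map_algebraMap, Polynomial.aeval_def, hf0] at h1
  cases isEmpty_or_nonempty n
  · exact absurd hμ (by simp [spectrum.of_subsingleton])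
  rw [spectrum.zero_eq, Set.mem_singleton_iff] at h1
  rw [← h1]
  exact (Polynomial.eval_map (algebraMap ℤ ℂ) μ).symm

theorem isIntegral_mul_idem {n : Type*} [Fintype n] [DecidableEq n] {A P : Matrix n n ℂ}
    (hA : IsIntegral ℤ A) (hP : P * P = P) (hAP : A * P = P * A) : IsIntegral ℤ (A * P) := by
  obtain ⟨f, hf, hf0⟩ := hA
  refine ⟨X * f, monic_X.mul hf, ?_⟩
  have h1 : ∀ g : ℤ[X], (A * P) * Polynomial.aeval (A * P) g = A * P * Polynomial.aeval A g := by
    intro g
    induction g using Polynomial.induction_on' with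
    | add g h hg hh => rw [map_add, map_add, mul_add, mul_add, hg, hh]
    | monomial i a =>
      rw [Polynomial.aeval_monomial, Polynomial.aeval_monomial]
      have hc : Commute A P := hAP
      have hPi : ∀ i : ℕ, P * P ^ i = P := fun i => by
        induction i with
        | zero => rw [pow_zero, mul_one]
        | succ i ih => rw [pow_succ, ← mul_assoc, ih, hP]
      rw [hc.mul_pow, ← mul_assoc, ← mul_assoc (A * P) _ (A ^ i),
        ← (Algebra.commutes a (A * P)), mul_assoc, mul_assoc (algebraMap ℤ _ a) (A * P)]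
      congr 1
      rw [← mul_assoc (A * P) (A ^ i) (P ^ i), mul_assoc A P (A ^ i), ← (hc.pow_left i).eq,
        mul_assoc A, mul_assoc (A ^ i) P, hPi, (hc.pow_left i).eq]
  rw [← Polynomial.aeval_def, map_mul, Polynomial.aeval_X, h1, Polynomial.aeval_def, hf0, mul_zero]

theorem isIntegral_mul_comm' {n : Type*} [Fintype n] [DecidableEq n] {A B : Matrix n n ℂ}
    (hA : IsIntegral ℤ A) (hB : IsIntegral ℤ B) (hAB : A * B = B * A) : IsIntegral ℤ (A * B) := by
  let S : Subalgebra ℤ (Matrix n n ℂ) := Algebra.adjoin ℤ {A, B}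
  have hcomm : ∀ x ∈ ({A, B} : Set (Matrix n n ℂ)), ∀ y ∈ ({A, B} : Set (Matrix n n ℂ)),
      x * y = y * x := by
    intro x hx y hy
    rcases hx with rfl | rfl <;> rcases hy with rfl | rfl <;> first | rfl | exact hAB | exact hAB.symm
  letI : CommRing S := Algebra.adjoinCommRingOfComm ℤ hcomm
  have hA' : IsIntegral ℤ (⟨A, Algebra.subset_adjoin (by simp)⟩ : S) :=
    (isIntegral_algHom_iff S.val Subtype.val_injective).1 hA
  have hB' : IsIntegral ℤ (⟨B, Algebra.subset_adjoin (by simp)⟩ : S) :=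
    (isIntegral_algHom_iff S.val Subtype.val_injective).1 hB
  exact (hA'.mul hB').map S.val

/-- The trace of an integral operator commuting with a representation. -/
def IsVT (φ : C → ℂ) : Prop :=
  ∃ (n : Type) (_ : Fintype n) (_ : DecidableEq n) (R : C →* Matrix n n ℂ) (A : Matrix n n ℂ),
    IsIntegral ℤ A ∧ (∀ c, A * R c = R c * A) ∧ ∀ c, φ c = Matrix.trace (A * R c)

theorem IsVT.mul {φ φ' : C → ℂ} (h : IsVT φ) (h' : IsVT φ') : IsVT fun c => φ c * φ' c := by
  obtain ⟨n, hn, hn', R, A, hA, hc, he⟩ := h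
  obtain ⟨m, hm, hm', R', A', hA', hc', he'⟩ := h'
  let R'' : C →* Matrix (n × m) (n × m) ℂ :=
    { toFun := fun c => R c ⊗ₖ R' c
      map_one' := by rw [map_one, map_one, Matrix.one_kronecker_one]
      map_mul' := fun a b => by rw [map_mul, map_mul, Matrix.mul_kronecker_mul] }
  refine ⟨n × m, inferInstance, inferInstance, R'', A ⊗ₖ A', ?_, fun c => ?_, fun c => ?_⟩
  · have e : A ⊗ₖ A' = (A ⊗ₖ (1 : Matrix m m ℂ)) * ((1 : Matrix n n ℂ) ⊗ₖ A') := by
      rw [← Matrix.mul_kronecker_mul, mul_one, one_mul]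
    rw [e]
    let fL : Matrix n n ℂ →+* Matrix (n × m) (n × m) ℂ :=
      { toFun := fun M => M ⊗ₖ (1 : Matrix m m ℂ)
        map_one' := Matrix.one_kronecker_one
        map_mul' := fun a b => by rw [← Matrix.mul_kronecker_mul, mul_one]
        map_zero' := Matrix.zero_kronecker _
        map_add' := fun a b => Matrix.add_kronecker a b _ }
    let fR : Matrix m m ℂ →+* Matrix (n × m) (n × m) ℂ :=
      { toFun := fun M => (1 : Matrix n n ℂ) ⊗ₖ M
        map_one' := Matrix.one_kronecker_one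
        map_mul' := fun a b => by rw [← Matrix.mul_kronecker_mul, mul_one]
        map_zero' := Matrix.kronecker_zero _
        map_add' := fun a b => Matrix.kronecker_add _ a b }
    refine isIntegral_mul_comm' (hA.map fL.toIntAlgHom) (hA'.map fR.toIntAlgHom) ?_
    show (A ⊗ₖ (1 : Matrix m m ℂ)) * ((1 : Matrix n n ℂ) ⊗ₖ A') = _ * (A ⊗ₖ (1 : Matrix m m ℂ))
    rw [← Matrix.mul_kronecker_mul, ← Matrix.mul_kronecker_mul]
    simp
  · show A ⊗ₖ A' * (R c ⊗ₖ R' c) = R c ⊗ₖ R' c * (A ⊗ₖ A')
    rw [← Matrix.mul_kronecker_mul, ← Matrix.mul_kronecker_mul, hc, hc']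
  · show φ c * φ' c = Matrix.trace (A ⊗ₖ A' * (R c ⊗ₖ R' c))
    rw [← Matrix.mul_kronecker_mul, Matrix.trace_kronecker, ← he, ← he']

theorem IsVT.pow {φ : C → ℂ} (h : IsVT φ) : ∀ j : ℕ, IsVT fun c => φ c ^ j
  | 0 => ⟨Fin 1, inferInstance, inferInstance, 1, 1, isIntegral_one, fun c => by simp,
      fun c => by simp⟩
  | j + 1 => by simpa only [pow_succ] using (h.pow j).mul h

theorem IsVT.of_isCharacter {φ : C → ℂ} (h : Cfsg.IsCharacter C φ) : IsVT φ := by
  obtain ⟨n, ρ, rfl⟩ := h
  refine ⟨Fin n, inferInstance, inferInstance,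
    { toFun := fun c => LinearMap.toMatrix' (ρ c)
      map_one' := by rw [map_one]; exact LinearMap.toMatrix'_id
      map_mul' := fun a b => by rw [map_mul]; exact LinearMap.toMatrix'_comp _ _ },
    1, isIntegral_one, fun c => by rw [one_mul, mul_one], fun c => ?_⟩
  rw [one_mul]
  exact LinearMap.trace_eq_matrix_trace ℂ (Pi.basisFun ℂ (Fin n)) (ρ c) |>.trans
    (by rw [LinearMap.toMatrix_eq_toMatrix']; rfl)

/-- A character at a translate by a centralized element. -/
theorem IsVT.of_translate {X : Type*} [Group X] [Finite X] (ι : C →* X) {v : X}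
    (hv : ∀ c, Commute v (ι c)) {χ : X → ℂ} (h : Cfsg.IsCharacter X χ) :
    IsVT fun c => χ (v * ι c) := by
  obtain ⟨n, ρ, rfl⟩ := h
  let M : X →* Matrix (Fin n) (Fin n) ℂ :=
    { toFun := fun x => LinearMap.toMatrix' (ρ x)
      map_one' := by rw [map_one]; exact LinearMap.toMatrix'_id
      map_mul' := fun a b => by rw [map_mul]; exact LinearMap.toMatrix'_comp _ _ }
  refine ⟨Fin n, inferInstance, inferInstance, M.comp ι, M v, ?_, fun c => ?_, fun c => ?_⟩
  · refine IsIntegral.of_pow (orderOf_pos v) ?_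
    rw [← map_pow, pow_orderOf_eq_one, map_one]
    exact isIntegral_one
  · show M v * M (ι c) = M (ι c) * M v
    rw [← map_mul, ← map_mul, (hv c).eq]
  · show _ = Matrix.trace (M v * M (ι c))
    rw [← map_mul]
    exact LinearMap.trace_eq_matrix_trace ℂ (Pi.basisFun ℂ (Fin n)) (ρ _) |>.trans
      (by rw [LinearMap.toMatrix_eq_toMatrix']; rfl)

/-- An average of such traces is an algebraic integer. -/
theorem IsVT.isIntegral_avg [Fintype C] {φ : C → ℂ} (h : IsVT φ) :
    IsIntegral ℤ ((Fintype.card C : ℂ)⁻¹ * ∑ c, φ c) := by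
  obtain ⟨n, hn, hn', R, A, hA, hc, he⟩ := h
  set P : Matrix n n ℂ := (Fintype.card C : ℂ)⁻¹ • ∑ c, R c with hP
  have hR : ∀ d, R d * ∑ c, R c = ∑ c, R c := fun d => by
    rw [Finset.mul_sum]
    exact Fintype.sum_equiv (Equiv.mulLeft d) _ _ fun c => (map_mul R d c).symm
  have hPP : P * P = P := by
    rw [hP, smul_mul_assoc, mul_smul_comm, Finset.sum_mul, Finset.sum_congr rfl fun d _ => hR d,
      Finset.sum_const, Finset.card_univ, ← Nat.cast_smul_eq_nsmul ℂ, smul_smul, smul_smul, mul_assoc,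
      inv_mul_cancel₀ (Nat.cast_ne_zero.mpr Fintype.card_ne_zero : (Fintype.card C : ℂ) ≠ 0), mul_one]
  have hAP : A * P = P * A := by
    rw [hP, mul_smul_comm, smul_mul_assoc, Finset.mul_sum, Finset.sum_mul,
      Finset.sum_congr rfl fun c _ => hc c]
  have e : (Fintype.card C : ℂ)⁻¹ * ∑ c, φ c = Matrix.trace (A * P) := by
    rw [hP, mul_smul_comm, Matrix.trace_smul, Finset.mul_sum, Finset.mul_sum, Matrix.trace_sum,
      smul_eq_mul, Finset.mul_sum]
    exact Finset.sum_congr rfl fun c _ => by rw [he]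
  rw [e]
  exact isIntegral_trace (isIntegral_mul_idem hA hPP hAP)

end CfsgLib.KGV.RealVector
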