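import Cfsg.Agent.Lib.KGV.RealVector.Gauss
import Cfsg.Agent.Lib.SpMinDegree.Weil

/-!
The values of the Weil representation on a group of order prime to `p`.
-/

set_option autoImplicit false
set_option linter.unusedSectionVars false
set_option linter.style.haveILetI false

namespace CfsgLib.KGV.RealVector

open Finset Cfsg CfsgLib.SpMinDegree CfsgLib.Classical.SympTrans Matrix
open scoped ComplexConjugate

variable {p : ℕ} [hp : Fact p.Prime] {n : ℕ}
variable {C : Type*} [Group C] (σ : C →* Matrix.symplecticGroup (Fin n) (ZMod p))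
variable (h2 : (2 : ZMod p) ≠ 0)

local notation "V" => (Fin n ⊕ Fin n → ZMod p)
local notation "Op" => Matrix (Fin n → ZMod p) (Fin n → ZMod p) ℂ
local notation "ω" => sympForm n (ZMod p)

theorem odd_card : (2 : ZMod p) ≠ 0 → Odd (Fintype.card (Fin n → ZMod p)) := by
  intro h
  rw [Fintype.card_fun, ZMod.card]
  refine (hp.out.odd_of_ne_two ?_).pow
  rintro rfl
  exact h rfl

/-- The operator of an element. -/
noncomputable def wop : C →* Op :=
  ((parCent (ZMod p) n).subtype.comp (weil h2 (odd_card h2))).comp σ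

/-- The Weil character. -/
noncomputable def wchar (c : C) : ℂ := Matrix.trace (wop σ h2 c)

/-- The natural module. -/
def natRep : Representation (ZMod p) C V where
  toFun c := Matrix.toLin' ((σ c : Matrix.symplecticGroup (Fin n) (ZMod p)) :
    Matrix (Fin n ⊕ Fin n) (Fin n ⊕ Fin n) (ZMod p))
  map_one' := by rw [map_one]; exact Matrix.toLin'_one
  map_mul' a b := by rw [map_mul]; exact Matrix.toLin'_mul _ _

theorem natRep_apply (c : C) (v : V) : natRep σ c v = app (σ c) v :=
  Matrix.toLin'_apply _ _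

/-- The reduced Weil value. -/
noncomputable def wred (c : C) : ℂ :=
  (p : ℂ) ^ n * wchar σ h2 c / (Nat.card (fixK (natRep σ) c) : ℂ)

include h2

theorem isVT_wchar : IsVT (wchar σ h2) :=
  ⟨Fin n → ZMod p, inferInstance, inferInstance, wop σ h2, 1, isIntegral_one,
    fun c => by rw [one_mul, mul_one], fun c => by rw [one_mul]; rfl⟩

theorem wop_disp (c : C) (v : V) :
    wop σ h2 c * disp v = disp (app (σ c) v) * wop σ h2 c :=
  (weil_spec h2 (odd_card h2) (σ c)).2 v

theorem wchar_conj (d c : C) : wchar σ h2 (d * c * d⁻¹) = wchar σ h2 c := by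
  rw [wchar, wchar, map_mul, map_mul, Matrix.trace_mul_cycle, ← map_mul, inv_mul_cancel, map_one,
    one_mul]

theorem wchar_one : wchar σ h2 1 = (p : ℂ) ^ n := by
  rw [wchar, map_one, Matrix.trace_one, Fintype.card_fun, ZMod.card, Fintype.card_fin]
  push_cast; rfl

theorem isCharacter_wchar [Finite C] : IsCharacter C (wchar σ h2) := by
  let ρ : Representation ℂ C ((Fin n → ZMod p) → ℂ) :=
    { toFun := fun c => Matrix.toLin' (wop σ h2 c)
      map_one' := by rw [map_one]; exact Matrix.toLin'_one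
      map_mul' := fun a b => by rw [map_mul]; exact Matrix.toLin'_mul _ _ }
  convert Char.isCharacter_character ρ using 1
  funext c
  exact (Matrix.trace_toLin'_eq (wop σ h2 c)).symm

theorem disp_swap (u v : V) :
    (disp u : Op) * disp v = RankOne.psi (ZMod p) (-ω u v) • (disp v * disp u) := by
  rw [disp_mul h2, disp_mul h2, smul_smul, ← psi_add, add_comm v u, f_swap u v]
  congr 2
  field_simp
  ring

theorem sum_conj_disp (M : Op) :
    ∑ v : V, disp v * M * disp (-v) =
      (((Fintype.card (Fin n → ZMod p) : ℕ) : ℂ) * Matrix.trace M) • (1 : Op) := by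
  set S : Op := ∑ v : V, disp v * M * disp (-v) with hS
  have hinv : ∀ u : V, disp u * S * disp (-u) = S := by
    intro u
    rw [hS, Finset.mul_sum, Finset.sum_mul]
    refine Fintype.sum_equiv (Equiv.addLeft u) _ _ fun v => ?_
    rw [Equiv.coe_addLeft, ← mul_assoc, ← mul_assoc, mul_assoc (disp u * disp v * M),
      disp_mul h2, disp_mul h2 (-v), smul_mul_assoc, smul_mul_assoc, mul_smul_comm, smul_smul,
      ← psi_add, show -v + -u = -(u + v) by abel]
    have : -((2 : ZMod p)⁻¹ * ω (-v) (-u)) + -((2 : ZMod p)⁻¹ * ω u v) = 0 := by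
      rw [show -v = (-1 : ZMod p) • v by rw [neg_one_smul],
        show -u = (-1 : ZMod p) • u by rw [neg_one_smul], f_smul_left, f_smul_right, f_swap u v]
      ring
    rw [add_comm] at this
    rw [this, psi_zero, one_smul]
  obtain ⟨a, ha⟩ := commutant_scalar h2 (M := S) fun u => by
    calc disp u * S = disp u * S * (disp (-u) * disp u) := by rw [disp_neg_mul h2, mul_one]
      _ = S * disp u := by rw [← mul_assoc, hinv]
  rw [ha]
  congr 1
  have h1 := congrArg Matrix.trace ha
  rw [hS, Matrix.trace_sum, Matrix.trace_smul, Matrix.trace_one,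
    Finset.sum_congr rfl fun v _ => (show Matrix.trace (disp v * M * disp (-v)) = Matrix.trace M by
      rw [Matrix.trace_mul_cycle, disp_neg_mul h2, one_mul]), Finset.sum_const, Finset.card_univ,
    nsmul_eq_mul, smul_eq_mul] at h1
  have hVX : Fintype.card V = Fintype.card (Fin n → ZMod p) * Fintype.card (Fin n → ZMod p) := by
    rw [← Fintype.card_prod]
    exact Fintype.card_congr (Equiv.sumArrowEquivProdArrow _ _ _)
  rw [hVX, Nat.cast_mul, mul_assoc, mul_comm a] at h1
  exact (mul_left_cancel₀ (Nat.cast_ne_zero.2 Fintype.card_ne_zero) h1).symm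

theorem wchar_mul_conj [Finite C] (c : C) :
    wchar σ h2 c * conj (wchar σ h2 c) = (Nat.card (fixK (natRep σ) c) : ℂ) := by
  classical
  haveI : Fintype (fixK (natRep σ) c) := Fintype.ofFinite _
  rw [← Char.value_inv_eq_conj (isCharacter_wchar σ h2) c]
  have h1 := congrArg (fun S : Op => Matrix.trace (wop σ h2 c⁻¹ * S))
    (sum_conj_disp (n := n) h2 (wop σ h2 c))
  simp only [Finset.mul_sum, Matrix.trace_sum, mul_smul_comm, mul_one, Matrix.trace_smul,
    smul_eq_mul] at h1
  have h3 : ∀ v : V, Matrix.trace (wop σ h2 c⁻¹ * (disp v * wop σ h2 c * disp (-v))) =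
      if v ∈ fixK (natRep σ) c then ((Fintype.card (Fin n → ZMod p) : ℕ) : ℂ) else 0 := by
    intro v
    rw [mul_assoc (disp v), ← mul_assoc, ← mul_assoc, wop_disp σ h2, mul_assoc (disp _),
      ← map_mul, inv_mul_cancel, map_one, mul_one, disp_mul h2, Matrix.trace_smul, trace_disp h2,
      smul_eq_mul, mem_fixK, natRep_apply]
    have hiff : app (σ c⁻¹) v + -v = 0 ↔ app (σ c) v = v := by
      rw [add_neg_eq_zero]
      constructor <;> intro h
      · conv_lhs => rw [← h, map_inv]
        rw [app_inv']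
      · conv_lhs => rw [← h, map_inv]
        rw [app_inv]
    by_cases hv : app (σ c) v = v
    · rw [if_pos (hiff.2 hv), if_pos hv]
      have hv' : app (σ c⁻¹) v = v := add_neg_eq_zero.1 (hiff.2 hv)
      rw [hv', show -v = (-1 : ZMod p) • v by rw [neg_one_smul], f_smul_right, f_self, mul_zero,
        mul_zero, neg_zero, psi_zero, one_mul]
    · rw [if_neg fun h => hv (hiff.1 h), if_neg hv, mul_zero]
  rw [Finset.sum_congr rfl fun v _ => h3 v, Finset.sum_ite, Finset.sum_const_zero, add_zero,
    Finset.sum_const, nsmul_eq_mul, mul_assoc, mul_comm] at h1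
  have h4 := mul_left_cancel₀ (Nat.cast_ne_zero.2 Fintype.card_ne_zero) h1
  rw [Nat.card_eq_fintype_card, Fintype.card_subtype, h4]
  rfl

theorem exists_isotropic [Finite C] (hC : ¬ p ∣ Nat.card C) (c : C) :
    ∃ L : Submodule (ZMod p) V, L ≤ fixK (natRep σ) c ∧ (∀ a ∈ L, ∀ b ∈ L, ω a b = 0) ∧
      Module.finrank (ZMod p) (fixK (natRep σ) c) ≤ 2 * Module.finrank (ZMod p) L ∧
      Module.finrank (ZMod p) L ≤ n ∧
      ∀ l ∈ L, l ≠ 0 → ∃ v ∈ fixK (natRep σ) c, ω v l ≠ 0 := by
  classical
  set W := fixK (natRep σ) c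
  have hne : ({L : Submodule (ZMod p) V | L ≤ W ∧ ∀ a ∈ L, ∀ b ∈ L, ω a b = 0}).Nonempty :=
    ⟨⊥, bot_le, fun a ha b _ => by rw [(Submodule.mem_bot (R := ZMod p)).1 ha, f_zero_left]⟩
  obtain ⟨L, ⟨hLW, hL⟩, hmax⟩ := (Set.toFinite
    {L : Submodule (ZMod p) V | L ≤ W ∧ ∀ a ∈ L, ∀ b ∈ L, ω a b = 0}).exists_maximal hne
  refine ⟨L, hLW, hL, ?_, ?_, ?_⟩
  · let g : W →ₗ[ZMod p] (L →ₗ[ZMod p] ZMod p) :=
      { toFun := fun v =>
          { toFun := fun l => ω v l
            map_add' := fun a b => f_add_right _ _ _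
            map_smul' := fun a b => f_smul_right _ _ _ }
        map_add' := fun a b => LinearMap.ext fun l => f_add_left _ _ _
        map_smul' := fun a b => LinearMap.ext fun l => f_smul_left _ _ _ }
    have hker : (LinearMap.ker g).map W.subtype ≤ L := by
      rintro v ⟨w, hw, rfl⟩
      have hw' : ∀ l ∈ L, ω (w : V) l = 0 := fun l hl =>
        DFunLike.congr_fun (LinearMap.mem_ker.1 hw) ⟨l, hl⟩
      have hmem : L ⊔ Submodule.span (ZMod p) {(w : V)} ∈
          {L : Submodule (ZMod p) V | L ≤ W ∧ ∀ a ∈ L, ∀ b ∈ L, ω a b = 0} := by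
        refine ⟨sup_le hLW ((Submodule.span_singleton_le_iff_mem _ _).2 w.2), fun a ha b hb => ?_⟩
        obtain ⟨a', ha', x, hx, rfl⟩ := Submodule.mem_sup.1 ha
        obtain ⟨b', hb', y, hy, rfl⟩ := Submodule.mem_sup.1 hb
        obtain ⟨s, rfl⟩ := Submodule.mem_span_singleton.1 hx
        obtain ⟨t, rfl⟩ := Submodule.mem_span_singleton.1 hy
        rw [f_add_left, f_add_right, f_add_right, hL a' ha' b' hb', f_smul_right, f_smul_left,
          hw' b' hb', f_smul_left, f_smul_right, f_self, f_swap (w : V) a', hw' a' ha']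
        ring
      exact hmax hmem le_sup_left (Submodule.mem_sup_right (Submodule.mem_span_singleton_self _))
    have h1 := LinearMap.finrank_range_add_finrank_ker g
    have h3 := (LinearMap.range g).finrank_le
    have h4 : Module.finrank (ZMod p) (L →ₗ[ZMod p] ZMod p) = Module.finrank (ZMod p) L :=
      Subspace.dual_finrank_eq
    have h5 := Submodule.finrank_mono hker
    rw [Submodule.finrank_map_subtype_eq] at h5
    omega
  · let g : L →ₗ[ZMod p] ((V ⧸ L) →ₗ[ZMod p] ZMod p) :=
      { toFun := fun l => L.liftQ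
          { toFun := fun v => ω (l : V) v
            map_add' := fun a b => f_add_right _ _ _
            map_smul' := fun a b => f_smul_right _ _ _ }
          fun v hv => LinearMap.mem_ker.2 (hL l l.2 v hv)
        map_add' := fun a b => Submodule.linearMap_qext _ (LinearMap.ext fun v => f_add_left _ _ _)
        map_smul' := fun a b =>
          Submodule.linearMap_qext _ (LinearMap.ext fun v => f_smul_left _ _ _) }
    have hg : Function.Injective g := by
      refine (injective_iff_map_eq_zero g).2 fun l hl => Subtype.ext (eq_zero_of_f _ fun v => ?_)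
      exact DFunLike.congr_fun hl (Submodule.Quotient.mk v)
    have h1 := LinearMap.finrank_le_finrank_of_injective hg
    have h3 : Module.finrank (ZMod p) ((V ⧸ L) →ₗ[ZMod p] ZMod p) =
        Module.finrank (ZMod p) (V ⧸ L) := Subspace.dual_finrank_eq
    have h4 := L.finrank_quotient_add_finrank
    have h5 : Module.finrank (ZMod p) V = n + n := by
      rw [Module.finrank_pi, Fintype.card_sum, Fintype.card_fin]
    omega
  · intro l hl hl0
    obtain ⟨y, hy⟩ : ∃ y, ω y l ≠ 0 := by
      by_contra h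
      push Not at h
      exact hl0 (eq_zero_of_f l fun v => by rw [f_swap v l, h v, neg_zero])
    obtain ⟨k, hk, r, hr, rfl⟩ := Submodule.mem_sup.1
      ((isCompl_fix_com (natRep σ) hC c).sup_eq_top.ge (Submodule.mem_top (x := y)))
    refine ⟨k, hk, fun h => hy ?_⟩
    obtain ⟨z, rfl⟩ := hr
    have hlf : app (σ c) l = l := by
      have := (mem_fixK (natRep σ)).1 (hLW hl)
      rwa [natRep_apply] at this
    rw [f_add_left, h, zero_add, LinearMap.sub_apply, Module.End.one_apply, natRep_apply,
      f_sub_left]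
    conv_lhs => arg 1; rw [← hlf, f_app]
    rw [sub_self]

theorem exists_nat_mul [Finite C] (hC : ¬ p ∣ Nat.card C) (c : C) :
    ∃ (m : ℕ) (t : ℂ), IsIntegral ℤ t ∧ wred σ h2 c = (m : ℂ) * t ∧
      ((∃ v, natRep σ c v ≠ v) → p ∣ m) := by
  classical
  obtain ⟨L, hLW, hL, hk, hl, hsep⟩ := exists_isotropic σ h2 hC c
  haveI : Fintype L := Fintype.ofFinite _
  set W := fixK (natRep σ) c with hW
  set M := wop σ h2 c with hM
  have hcomm : ∀ v ∈ W, M * disp v = disp v * M := fun v hv => by
    have := (mem_fixK (natRep σ)).1 hv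
    rw [natRep_apply] at this
    rw [hM, wop_disp, this]
  set P : Op := (Fintype.card L : ℂ)⁻¹ • ∑ l : L, disp (l : V) with hP
  have hPP : P * P = P := by
    have hrow : ∀ a : L, disp (a : V) * ∑ l : L, (disp (l : V) : Op) = ∑ l : L, disp (l : V) := by
      intro a
      rw [Finset.mul_sum]
      refine Fintype.sum_equiv (Equiv.addLeft a) _ _ fun l => ?_
      rw [disp_mul h2, hL a a.2 l l.2, mul_zero, neg_zero, psi_zero, one_smul]
      rfl
    rw [hP, smul_mul_assoc, mul_smul_comm, Finset.sum_mul, Finset.sum_congr rfl fun d _ => hrow d,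
      Finset.sum_const, Finset.card_univ, ← Nat.cast_smul_eq_nsmul ℂ, smul_smul, smul_smul, mul_assoc,
      inv_mul_cancel₀ (Nat.cast_ne_zero.mpr Fintype.card_ne_zero : (Fintype.card L : ℂ) ≠ 0), mul_one]
  have hMP : M * P = P * M := by
    rw [hP, mul_smul_comm, smul_mul_assoc, Finset.mul_sum, Finset.sum_mul,
      Finset.sum_congr rfl fun l _ => hcomm _ (hLW l.2)]
  have hMint : IsIntegral ℤ M := by
    haveI := Fintype.ofFinite C
    refine IsIntegral.of_pow (orderOf_pos c) ?_
    rw [hM, ← map_pow, pow_orderOf_eq_one, map_one]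
    exact isIntegral_one
  have hzero : ∀ l : L, l ≠ 0 → Matrix.trace (M * disp (l : V)) = 0 := by
    intro l hl0
    obtain ⟨v, hv, hvl⟩ := hsep l l.2 (fun h => hl0 (Subtype.ext h))
    obtain ⟨x, hx⟩ : ∃ x : ZMod p, RankOne.psi (ZMod p) x ≠ 1 := by
      by_contra h
      push Not at h
      have := RankOne.psi_sum (1 : ZMod p)
      rw [if_neg one_ne_zero, Finset.sum_congr rfl fun x _ => h _, Finset.sum_const, Finset.card_univ,
        nsmul_one] at this
      exact Nat.cast_ne_zero.2 Fintype.card_ne_zero this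
    set v' := (-x * (ω v l)⁻¹) • v with hv'
    have hph : RankOne.psi (ZMod p) (-ω v' (l : V)) ≠ 1 := by
      rwa [hv', f_smul_left, mul_assoc, inv_mul_cancel₀ hvl, mul_one, neg_neg]
    have h1 : Matrix.trace (disp v' * (M * disp (l : V)) * disp (-v')) =
        Matrix.trace (M * disp (l : V)) := by
      rw [Matrix.trace_mul_cycle, disp_neg_mul h2, one_mul]
    have h3 : disp v' * (M * disp (l : V)) * disp (-v') =
        RankOne.psi (ZMod p) (-ω v' (l : V)) • (M * disp (l : V)) := by
      rw [← mul_assoc, ← hcomm v' (W.smul_mem _ hv), mul_assoc M, disp_swap h2 v' (l : V),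
        mul_smul_comm, smul_mul_assoc, mul_assoc M, mul_assoc (disp (l : V)),
        mul_eq_one_comm.1 (disp_neg_mul h2 v'), mul_one]
    rw [h3, Matrix.trace_smul, smul_eq_mul] at h1
    exact (mul_eq_zero.1 (show (RankOne.psi (ZMod p) (-ω v' (l : V)) - 1) *
      Matrix.trace (M * disp (l : V)) = 0 by linear_combination h1)).resolve_left (sub_ne_zero.2 hph)
  have htr : Matrix.trace (M * P) = wchar σ h2 c / (Fintype.card L : ℂ) := by
    rw [hP, mul_smul_comm, Matrix.trace_smul, Finset.mul_sum, Matrix.trace_sum,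
      Finset.sum_eq_single (0 : L) (fun l _ h => hzero l h) (fun h => absurd (Finset.mem_univ _) h),
      Submodule.coe_zero, disp_zero, mul_one, smul_eq_mul, wchar, div_eq_inv_mul, ← hM]
  set k := Module.finrank (ZMod p) W with hkdef
  set l := Module.finrank (ZMod p) L with hldef
  refine ⟨p ^ (n + l - k), Matrix.trace (M * P), isIntegral_trace (isIntegral_mul_idem hMint hPP hMP),
    ?_, ?_⟩
  · haveI : Fintype W := Fintype.ofFinite _
    have hcW : Nat.card W = p ^ k := by
      rw [Nat.card_eq_fintype_card, Module.card_eq_pow_finrank (K := ZMod p), ZMod.card]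
    have hcL : Fintype.card L = p ^ l := by
      rw [Module.card_eq_pow_finrank (K := ZMod p), ZMod.card]
    have hp0 : (p : ℂ) ≠ 0 := Nat.cast_ne_zero.2 hp.out.ne_zero
    rw [htr, hcL, wred, ← hW, hcW]
    push_cast
    field_simp
    have e : (p : ℂ) ^ (n + l - k) * (p : ℂ) ^ k = (p : ℂ) ^ n * (p : ℂ) ^ l := by
      rw [← pow_add, ← pow_add, show n + l - k + k = n + l by omega]
    linear_combination (-wchar σ h2 c) * e
  · rintro ⟨v, hv⟩
    refine dvd_pow_self p ?_
    intro h0
    have h5 : Module.finrank (ZMod p) V = n + n := by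
      rw [Module.finrank_pi, Fintype.card_sum, Fintype.card_fin]
    have hlt : k < n + n := h5 ▸ Submodule.finrank_lt fun h => hv
      ((mem_fixK (natRep σ)).1 (show v ∈ W by rw [h]; trivial))
    omega

theorem isIntegral_wred [Finite C] (hC : ¬ p ∣ Nat.card C) (c : C) :
    IsIntegral ℤ (wred σ h2 c) := by
  obtain ⟨m, t, ht, he, -⟩ := exists_nat_mul σ h2 hC c
  rw [he]
  exact (isIntegral_algebraMap (x := (m : ℤ))).mul ht

theorem memLocalIdeal_wred [Finite C] (hC : ¬ p ∣ Nat.card C) {M : Ideal AlgInt}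
    (hM : IsPModular p M) {c : C} (hc : ∃ v, natRep σ c v ≠ v) :
    MemLocalIdeal M (wred σ h2 c) := by
  haveI := Blocks.isPrime_of_isPModular hM
  obtain ⟨m, t, ht, he, hd⟩ := exists_nat_mul σ h2 hC c
  rw [he]
  exact Blocks.memLocalIdeal_mul_right ((Blocks.memLocalIdeal_natCast_iff hM).2 (hd hc))
    (Blocks.memLocalRing_of_isIntegral ht)

theorem isCMValue_wred [Finite C] (c : C) : Char.IsCMValue (wred σ h2 c) := by
  rw [wred, div_eq_mul_inv, ← Nat.cast_pow]
  exact ((Char.isCMValue_natCast _).mul (Char.isCMValue_character (isCharacter_wchar σ h2) c)).mul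
    (Char.isCMValue_natCast _).inv

theorem wred_mul_conj [Finite C] (c : C) :
    wred σ h2 c * conj (wred σ h2 c) =
      ((p : ℂ) ^ n) ^ 2 / (Nat.card (fixK (natRep σ) c) : ℂ) := by
  have h := wchar_mul_conj σ h2 c
  have h0 : (Nat.card (fixK (natRep σ) c) : ℂ) ≠ 0 := Nat.cast_ne_zero.2 Nat.card_pos.ne'
  simp only [wred, map_div₀, map_mul, map_pow, map_natCast]
  field_simp
  linear_combination ((p : ℂ) ^ n) ^ 2 * h

theorem wred_conj [Finite C] (d c : C) : wred σ h2 (d * c * d⁻¹) = wred σ h2 c := by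
  rw [wred, wred, wchar_conj, card_fixK_conj (natRep σ)
    (LinearMap.mk₂ (ZMod p) (fun u v => ω u v) f_add_left f_smul_left f_add_right f_smul_right)
    (fun c u w => by simp [natRep_apply, f_app])]

theorem wred_one [Finite C] : wred σ h2 1 = 1 := by
  haveI : Fintype (fixK (natRep σ) (1 : C)) := Fintype.ofFinite _
  rw [wred, wchar_one, show fixK (natRep σ) (1 : C) = ⊤ from by
      rw [eq_top_iff]; intro u _; simp [mem_fixK],
    Nat.card_congr (Submodule.topEquiv (R := ZMod p) (M := V)).toEquiv, Nat.card_eq_fintype_card,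
    Fintype.card_fun, ZMod.card, Fintype.card_sum, Fintype.card_fin, ← pow_add, Nat.cast_pow,
    div_self]
  exact pow_ne_zero _ (Nat.cast_ne_zero.2 hp.out.ne_zero)

end CfsgLib.KGV.RealVector
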